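import Groth.Agent.Lib.KDer.Heart
import Groth.Agent.Lib.DerCat.Acyclic
import Mathlib.Algebra.Homology.DerivedCategory.KProjective
import Mathlib.Algebra.Homology.DerivedCategory.ShortExact
import Mathlib.Algebra.Homology.HomologicalComplexAbelian
import Mathlib.CategoryTheory.Abelian.Projective.Basic

/-! # Euler characteristics of bounded complexes in a class closed under kernels of epimorphisms -/

set_option autoImplicit false
universe w v u

open CategoryTheory CategoryTheory.Limits

namespace GrothLib.KProj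

variable {A : Type u} [Category.{v} A] [Abelian A] (P : ObjectProperty A)

/-- Closed under binary sums and kernels of epimorphisms, contains zero objects, iso-closed. -/
structure Resolving : Prop where
  iso : ∀ {X Y : A}, (X ≅ Y) → P X → P Y
  zero : ∀ {Z : A}, IsZero Z → P Z
  sum : ∀ {X Y : A}, P X → P Y → P (X ⊞ Y)
  ker : ∀ {X Y : A} (f : X ⟶ Y) [Epi f], P X → P Y → P (kernel f)

/-- A bounded complex with terms in `P`. -/
def Bdd (E : CochainComplex A ℤ) : Prop :=
  (∃ a b : ℤ, ∀ i : ℤ, i < a ∨ b < i → IsZero (E.X i)) ∧ ∀ i, P (E.X i)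

variable {P}

theorem Resolving.closedIso (h : Resolving P) : P.IsClosedUnderIsomorphisms := ⟨fun e hX => h.iso e hX⟩

theorem Resolving.containsZero (h : Resolving P) [HasZeroObject A] : P.ContainsZero :=
  ⟨⟨_, isZero_zero A, h.zero (isZero_zero A)⟩⟩

theorem clSub_iso (hP : Resolving P) {X Y : A} (e : X ≅ Y) : KZero.clSub P X = KZero.clSub P Y := by
  by_cases hX : P X
  · have h := K0Sub.clSub_add (K0Sub.shortExact_kernel e.hom) (hP.zero (isZero_kernel_of_mono e.hom)) hX
      (hP.iso e hX)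
    change KZero.clSub P X = KZero.clSub P (kernel e.hom) + KZero.clSub P Y at h
    rw [h, K0Sub.clSub_isZero (isZero_kernel_of_mono e.hom), zero_add]
  · have hY : ¬ P Y := fun hY => hX (hP.iso e.symm hY)
    simp only [KZero.clSub, dif_neg hX, dif_neg hY]

theorem clSub_biprod (hP : Resolving P) {X Y : A} (hX : P X) (hY : P Y) :
    KZero.clSub P (X ⊞ Y) = KZero.clSub P X + KZero.clSub P Y := by
  have s : (ShortComplex.mk (biprod.inl : X ⟶ X ⊞ Y) biprod.snd biprod.inl_snd).Splitting :=
    { r := biprod.fst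
      s := biprod.inr }
  exact K0Sub.clSub_add s.shortExact hX (hP.sum hX hY) hY

/-- The Euler characteristic. -/
noncomputable def chi (P : ObjectProperty A) (E : CochainComplex A ℤ) : KZero.K0sub P :=
  ∑ᶠ i : ℤ, (i.negOnePow : ℤ) • KZero.clSub P (E.X i)

theorem finite_support {E : CochainComplex A ℤ} (hE : Bdd P E) (F : ℤ → KZero.K0sub P)
    (hF : ∀ i, IsZero (E.X i) → F i = 0) :
    (Function.support fun i : ℤ => (i.negOnePow : ℤ) • F i).Finite := by
  obtain ⟨a, b, h⟩ := hE.1
  refine (Set.finite_Icc a b).subset fun i hi => ?_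
  by_contra hc
  simp only [Set.mem_Icc, not_and_or, not_le] at hc
  exact hi ((congrArg _ (hF i (h i hc))).trans (smul_zero _))

theorem finsum_succ (F : ℤ → KZero.K0sub P) :
    ∑ᶠ i : ℤ, (i.negOnePow : ℤ) • F (i + 1) = -∑ᶠ i : ℤ, (i.negOnePow : ℤ) • F i := by
  rw [← finsum_neg_distrib]
  refine Eq.trans ?_ (finsum_comp_equiv (Equiv.addRight (1 : ℤ)) (f := fun i => -((i.negOnePow : ℤ) • F i)))
  refine finsum_congr fun i => ?_
  simp [Int.negOnePow_succ]

theorem finite_support_succ {E : CochainComplex A ℤ} (hE : Bdd P E) (F : ℤ → KZero.K0sub P)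
    (hF : ∀ i, IsZero (E.X i) → F i = 0) :
    (Function.support fun i : ℤ => (i.negOnePow : ℤ) • F (i + 1)).Finite := by
  obtain ⟨a, b, h⟩ := hE.1
  refine (Set.finite_Icc (a - 1) (b - 1)).subset fun i hi => ?_
  by_contra hc
  simp only [Set.mem_Icc, not_and_or, not_le] at hc
  exact hi ((congrArg _ (hF (i + 1) (h (i + 1) (by omega)))).trans (smul_zero _))

theorem shortExact_cycles {E : CochainComplex A ℤ} (hE : E.Acyclic) (i : ℤ) :
    (ShortComplex.mk (kernel.ι (E.d i (i + 1)))
      (kernel.lift (E.d (i + 1) (i + 1 + 1)) (E.d i (i + 1)) (E.d_comp_d _ _ _))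
      (by rw [← cancel_mono (kernel.ι (E.d (i + 1) (i + 1 + 1))), Category.assoc, kernel.lift_ι,
        kernel.condition, zero_comp])).ShortExact := by
  have h : (E.sc' i (i + 1) (i + 1 + 1)).Exact :=
    (E.exactAt_iff' i (i + 1) (i + 1 + 1) (by simp) (by simp)).1 (hE (i + 1))
  have : Epi (kernel.lift (E.d (i + 1) (i + 1 + 1)) (E.d i (i + 1)) (E.d_comp_d _ _ _)) :=
    h.epi_kernelLift
  refine { exact := ShortComplex.exact_of_f_is_kernel _ ?_ }
  refine KernelFork.IsLimit.ofι' _ _ fun g hg => ⟨kernel.lift _ g ?_, kernel.lift_ι _ _ _⟩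
  rw [← kernel.lift_ι (E.d (i + 1) (i + 1 + 1)) (E.d i (i + 1)) (E.d_comp_d _ _ _), ← Category.assoc, hg,
    zero_comp]

theorem prop_cycles (hP : Resolving P) {E : CochainComplex A ℤ} (hE : Bdd P E) (ha : E.Acyclic) (i : ℤ) :
    P (kernel (E.d i (i + 1))) := by
  obtain ⟨a, b, h⟩ := hE.1
  suffices ∀ (n : ℕ) (i : ℤ), b < i + n → P (kernel (E.d i (i + 1))) from
    this (b + 1 - i).toNat i (by omega)
  intro n
  induction n with
  | zero => exact fun i hi => hP.zero (IsZero.of_mono (kernel.ι _) (h i (Or.inr (by omega))))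
  | succ n ih =>
    intro i hi
    have hS := shortExact_cycles ha i
    have : Epi (kernel.lift (E.d (i + 1) (i + 1 + 1)) (E.d i (i + 1)) (E.d_comp_d _ _ _)) := hS.epi_g
    have e := IsLimit.conePointUniqueUpToIso
      (kernelIsKernel (kernel.lift (E.d (i + 1) (i + 1 + 1)) (E.d i (i + 1)) (E.d_comp_d _ _ _))) hS.fIsKernel
    exact hP.iso e (hP.ker _ (hE.2 i) (ih (i + 1) (by omega)))

theorem chi_acyclic (hP : Resolving P) {E : CochainComplex A ℤ} (hE : Bdd P E) (ha : E.Acyclic) :
    chi P E = 0 := by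
  let z : ℤ → KZero.K0sub P := fun i => KZero.clSub P (kernel (E.d i (i + 1)))
  have hz : ∀ i, IsZero (E.X i) → z i = 0 := fun i hi =>
    K0Sub.clSub_isZero (IsZero.of_mono (kernel.ι _) hi)
  have he : ∀ i, KZero.clSub P (E.X i) = z i + z (i + 1) := fun i =>
    K0Sub.clSub_add (shortExact_cycles ha i) (prop_cycles hP hE ha i) (hE.2 i) (prop_cycles hP hE ha (i + 1))
  have h : chi P E = (∑ᶠ i : ℤ, (i.negOnePow : ℤ) • z i) + ∑ᶠ i : ℤ, (i.negOnePow : ℤ) • z (i + 1) := by
    rw [← finsum_add_distrib (finite_support hE z hz) (finite_support_succ hE z hz)]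
    exact finsum_congr fun i => by rw [← smul_add, ← he]
  rw [h, finsum_succ, add_neg_cancel]

variable {E F : CochainComplex A ℤ}

theorem bdd_mappingCone (hP : Resolving P) (hE : Bdd P E) (hF : Bdd P F) (f : E ⟶ F) :
    Bdd P (CochainComplex.mappingCone f) := by
  obtain ⟨a, b, h⟩ := hE.1
  obtain ⟨a', b', h'⟩ := hF.1
  refine ⟨⟨min (a - 1) a', max b b', fun i hi => HomologicalComplex.homotopyCofiber.isZero_X f i
    (h' i (by omega)) fun j hj => h j (by simp at hj; omega)⟩, fun i => ?_⟩
  exact hP.iso (HomologicalComplex.homotopyCofiber.XIsoBiprod f i (i + 1) rfl).symm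
    (hP.sum (hE.2 (i + 1)) (hF.2 i))

theorem chi_mappingCone (hP : Resolving P) (hE : Bdd P E) (hF : Bdd P F) (f : E ⟶ F) :
    chi P (CochainComplex.mappingCone f) = chi P F - chi P E := by
  have he : ∀ i, KZero.clSub P ((CochainComplex.mappingCone f).X i) =
      KZero.clSub P (E.X (i + 1)) + KZero.clSub P (F.X i) := fun i => by
    rw [← clSub_biprod hP (hE.2 (i + 1)) (hF.2 i)]
    exact clSub_iso hP (HomologicalComplex.homotopyCofiber.XIsoBiprod f i (i + 1) rfl)
  have h : chi P (CochainComplex.mappingCone f) =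
      (∑ᶠ i : ℤ, (i.negOnePow : ℤ) • KZero.clSub P (E.X (i + 1))) + chi P F := by
    rw [chi, chi, ← finsum_add_distrib (finite_support_succ hE (fun i => KZero.clSub P (E.X i))
      fun i hi => K0Sub.clSub_isZero hi) (finite_support hF _ fun i hi => K0Sub.clSub_isZero hi)]
    exact finsum_congr fun i => by rw [← smul_add, ← he]
  rw [h, finsum_succ (fun i => KZero.clSub P (E.X i)), sub_eq_add_neg, add_comm]
  rfl

theorem chi_single (X : A) (n : ℤ) (hP : Resolving P) :
    chi P ((CochainComplex.singleFunctor A n).obj X) = (n.negOnePow : ℤ) • KZero.clSub P X := by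
  rw [chi, finsum_eq_single _ n fun i hi => ?_]
  · exact congrArg _ (clSub_iso hP (HomologicalComplex.singleObjXSelf (.up ℤ) n X))
  · exact (congrArg _ (K0Sub.clSub_isZero (HomologicalComplex.isZero_single_obj_X (.up ℤ) n X i hi))).trans (smul_zero _)

theorem bdd_single (hP : Resolving P) {X : A} (hX : P X) (n : ℤ) :
    Bdd P ((CochainComplex.singleFunctor A n).obj X) := by
  refine ⟨⟨n, n, fun i hi => HomologicalComplex.isZero_single_obj_X (.up ℤ) n X i (by omega)⟩, fun i => ?_⟩
  by_cases h : i = n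
  · subst h; exact hP.iso (HomologicalComplex.singleObjXSelf (.up ℤ) i X).symm hX
  · exact hP.zero (HomologicalComplex.isZero_single_obj_X (.up ℤ) n X i h)

section Projective

variable [HasDerivedCategory.{w} A] (hproj : ∀ X, P X → Projective X)
include hproj

theorem isKProjective (hE : Bdd P E) : E.IsKProjective := by
  obtain ⟨a, b, h⟩ := hE.1
  have : E.IsStrictlyLE b := (E.isStrictlyLE_iff b).2 fun i hi => h i (Or.inr hi)
  have : ∀ n, Projective (E.X n) := fun n => hproj _ (hE.2 n)
  exact CochainComplex.isKProjective_of_projective E b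

theorem exists_lift (hE : Bdd P E) (f : DerivedCategory.Q.obj E ⟶ DerivedCategory.Q.obj F) :
    ∃ g : E ⟶ F, DerivedCategory.Q.map g = f := by
  have := isKProjective hproj hE
  obtain ⟨g, hg⟩ := (CochainComplex.IsKProjective.Qh_map_bijective E _).surjective
    ((DerivedCategory.quotientCompQhIso A).hom.app E ≫ f ≫ (DerivedCategory.quotientCompQhIso A).inv.app F)
  obtain ⟨g, rfl⟩ := (HomotopyCategory.quotient A (.up ℤ)).map_surjective g
  refine ⟨g, ?_⟩
  rw [← cancel_epi ((DerivedCategory.quotientCompQhIso A).hom.app E),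
    ← (DerivedCategory.quotientCompQhIso A).hom.naturality g]
  refine (congrArg (· ≫ (DerivedCategory.quotientCompQhIso A).hom.app F) hg).trans ?_
  rw [Category.assoc, Category.assoc, Iso.inv_hom_id_app]
  exact congrArg (_ ≫ ·) (Category.comp_id _)

theorem chi_eq_of_iso (hP : Resolving P) (hE : Bdd P E) (hF : Bdd P F)
    (e : DerivedCategory.Q.obj E ≅ DerivedCategory.Q.obj F) : chi P E = chi P F := by
  obtain ⟨g, hg⟩ := exists_lift hproj hE e.hom
  have : QuasiIso g := by
    rw [← DerivedCategory.isIso_Q_map_iff_quasiIso, hg]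
    infer_instance
  have h := chi_acyclic hP (bdd_mappingCone hP hE hF g) ((DerCat.quasiIso_iff_acyclic_mappingCone g).1 this)
  rw [chi_mappingCone hP hE hF g, sub_eq_zero] at h
  exact h.symm

theorem exists_cone_iso (hP : Resolving P) {T : Pretriangulated.Triangle (DerivedCategory A)}
    (hT : T ∈ Pretriangulated.distinguishedTriangles) (hE : Bdd P E) (hF : Bdd P F)
    (e₁ : DerivedCategory.Q.obj E ≅ T.obj₁) (e₂ : DerivedCategory.Q.obj F ≅ T.obj₂) :
    ∃ G, Bdd P G ∧ Nonempty (DerivedCategory.Q.obj G ≅ T.obj₃) ∧ chi P G = chi P F - chi P E := by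
  obtain ⟨g, hg⟩ := exists_lift hproj hE (e₁.hom ≫ T.mor₁ ≫ e₂.inv)
  refine ⟨_, bdd_mappingCone hP hE hF g, ⟨?_⟩, chi_mappingCone hP hE hF g⟩
  refine Pretriangulated.Triangle.π₃.mapIso (Pretriangulated.isoTriangleOfIso₁₂ _ T
    (DerivedCategory.mappingCone_triangle_distinguished g) hT e₁ e₂ ?_)
  change DerivedCategory.Q.map g ≫ e₂.hom = e₁.hom ≫ T.mor₁
  rw [hg, Category.assoc, Category.assoc, e₂.inv_hom_id, Category.comp_id]

end Projective

end GrothLib.KProj
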