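import Groth.Agent.Lib.KProj.Basic
import Groth.Agent.Lib.OX.StupidGE

/-! # `K₀` of a class of projectives is `K₀` of the perfect objects it defines -/

set_option autoImplicit false
universe w v u

open CategoryTheory CategoryTheory.Limits CategoryTheory.Pretriangulated
open scoped ZeroObject

namespace GrothLib.KProj

variable {A : Type u} [Category.{v} A] [Abelian A] [HasDerivedCategory.{w} A] {P : ObjectProperty A}

/-- The short exact sequence splitting off the lowest term. -/
theorem exists_split_lowest (hP : Resolving P) {E : CochainComplex A ℤ} (a b : ℤ)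
    (h : ∀ i : ℤ, i < a ∨ b < i → IsZero (E.X i)) (hE : ∀ i, P (E.X i)) :
    ∃ (E' : CochainComplex A ℤ) (ι : E' ⟶ E) (π : E ⟶ (CochainComplex.singleFunctor A a).obj (E.X a))
      (w : ι ≫ π = 0), (ShortComplex.mk ι π w).ShortExact ∧ (∀ i, P (E'.X i)) ∧
      ∀ i : ℤ, i < a + 1 ∨ b < i → IsZero (E'.X i) := by
  have hz : ∀ i, i < a + 1 ∨ b < i → IsZero ((StupidGE.trunc E (a + 1)).X i) := fun i hi => by
    rcases hi with hi | hi
    · exact StupidGE.isZero_trunc E _ hi
    · exact StupidGE.isZero_trunc_of_isZero E _ (h i (Or.inr hi))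
  let π : E ⟶ (HomologicalComplex.single A (.up ℤ) a).obj (E.X a) :=
    HomologicalComplex.mkHomToSingle (𝟙 _) fun i hi => (h i (Or.inl (by simp at hi; omega))).eq_of_src _ _
  have w : StupidGE.ι E (a + 1) ≫ π = 0 := by
    apply HomologicalComplex.to_single_hom_ext
    exact (hz a (Or.inl (by omega))).eq_of_src _ _
  refine ⟨_, _, π, w, HomologicalComplex.shortExact_of_degreewise_shortExact _ fun i => ?_, fun i => ?_, hz⟩
  · by_cases hi : i = a
    · subst hi
      have z : IsZero ((StupidGE.trunc E (i + 1)).X i) := hz i (Or.inl (by omega))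
      have : IsIso (π.f i) := by
        rw [HomologicalComplex.mkHomToSingle_f, Category.id_comp]
        infer_instance
      exact { exact := (ShortComplex.exact_iff_mono _ (z.eq_of_src _ _)).2 (inferInstanceAs (Mono (π.f i)))
              mono_f := ⟨fun _ _ _ => z.eq_of_tgt _ _⟩
              epi_g := inferInstanceAs (Epi (π.f i)) }
    · have z : IsZero (((HomologicalComplex.single A (.up ℤ) a).obj (E.X a)).X i) :=
        HomologicalComplex.isZero_single_obj_X (.up ℤ) a _ i hi
      have : IsIso ((StupidGE.ι E (a + 1)).f i) := by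
        rcases lt_or_ge i (a + 1) with h' | h'
        · exact isIso_of_source_target_iso_zero _ (hz i (Or.inl h')).isoZero (h i (Or.inl (by omega))).isoZero
        · exact StupidGE.isIso_ι_f E _ h'
      exact { exact := (ShortComplex.exact_iff_epi _ (z.eq_of_tgt _ _)).2
                (inferInstanceAs (Epi ((StupidGE.ι E (a + 1)).f i)))
              mono_f := inferInstanceAs (Mono ((StupidGE.ι E (a + 1)).f i))
              epi_g := ⟨fun _ _ _ => z.eq_of_src _ _⟩ }
  · rcases lt_or_ge i (a + 1) with h' | h'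
    · exact hP.zero (hz i (Or.inl h'))
    · have := StupidGE.isIso_ι_f E (a + 1) h'
      exact hP.iso (asIso ((StupidGE.ι E (a + 1)).f i)).symm (hE i)

variable (Q : ObjectProperty (DerivedCategory A))

/-- **`K₀` of perfect objects is `K₀` of projectives.** -/
theorem exists_equiv (hP : Resolving P) (hproj : ∀ X, P X → Projective X)
    (hQ : ∀ K, Q K ↔ ∃ E, Bdd P E ∧ Nonempty (DerivedCategory.Q.obj E ≅ K)) :
    ∃ φ : KZero.K0sub P ≃+ KZero.K0tr Q,
      (∀ X, P X → φ (KZero.clSub P X) = KZero.clTr Q ((DerivedCategory.singleFunctor A 0).obj X)) ∧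
      ∀ E, Bdd P E → φ.symm (KZero.clTr Q (DerivedCategory.Q.obj E)) = chi P E := by
  classical
  let sI : ∀ (n : ℤ) (X : A), (DerivedCategory.singleFunctor A n).obj X ≅
      DerivedCategory.Q.obj ((CochainComplex.singleFunctor A n).obj X) := fun n X =>
    (DerivedCategory.singleFunctorIsoCompQ A n).app X
  have hQi : Q.IsClosedUnderIsomorphisms := ⟨fun {X Y} e hX => by
    obtain ⟨E, hE, ⟨e'⟩⟩ := (hQ X).1 hX
    exact (hQ Y).2 ⟨E, hE, ⟨e' ≪≫ e⟩⟩⟩
  have hQQ : ∀ E, Bdd P E → Q (DerivedCategory.Q.obj E) := fun E hE => (hQ _).2 ⟨E, hE, ⟨Iso.refl _⟩⟩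
  have hQs : ∀ (n : ℤ) (X : A), P X → Q ((DerivedCategory.singleFunctor A n).obj X) := fun n X hX =>
    Q.prop_of_iso (sI n X).symm (hQQ _ (bdd_single hP hX n))
  have hQ0 : Q (0 : DerivedCategory A) :=
    Q.prop_of_iso ((DerivedCategory.singleFunctor A 0).map_isZero (isZero_zero A)).isoZero
      (hQs 0 0 (hP.zero (isZero_zero A)))
  let c : DerivedCategory A → KZero.K0sub P := fun K =>
    if h : Q K then chi P ((hQ K).1 h).choose else 0
  have hc : ∀ E K, Bdd P E → (DerivedCategory.Q.obj E ≅ K) → c K = chi P E := fun E K hE e => by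
    have h : Q K := (hQ K).2 ⟨E, hE, ⟨e⟩⟩
    obtain ⟨hE', ⟨e'⟩⟩ := ((hQ K).1 h).choose_spec
    simp only [c, dif_pos h]
    exact chi_eq_of_iso hproj hP hE' hE (e' ≪≫ e.symm)
  obtain ⟨f, hf⟩ := K0Sub.exists_lift (P := P)
    (fun X => KZero.clTr Q ((DerivedCategory.singleFunctor A 0).obj X))
    fun S hS h₁ h₂ h₃ =>
      KDer.clTr_add hS.singleTriangle_distinguished (hQs 0 _ h₁) (hQs 0 _ h₂) (hQs 0 _ h₃)
  obtain ⟨g, hg⟩ := KDer.exists_lift (Q := Q) c fun T hT h₁ h₂ _ => by
    obtain ⟨E, hE, ⟨e₁⟩⟩ := (hQ _).1 h₁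
    obtain ⟨F, hF, ⟨e₂⟩⟩ := (hQ _).1 h₂
    obtain ⟨G, hG, ⟨e₃⟩, hχ⟩ := exists_cone_iso hproj hP hT hE hF e₁ e₂
    rw [hc E _ hE e₁, hc F _ hF e₂, hc G _ hG e₃, hχ]
    abel
  have hgQ : ∀ E, Bdd P E → g (KZero.clTr Q (DerivedCategory.Q.obj E)) = chi P E := fun E hE => by
    rw [hg _ (hQQ E hE), hc E _ hE (Iso.refl _)]
  have hgf : g.comp f = AddMonoidHom.id _ := K0Sub.hom_ext fun X hX => by
    rw [AddMonoidHom.comp_apply, hf X hX, AddMonoidHom.id_apply, hg _ (hQs 0 X hX),
      hc _ _ (bdd_single hP hX 0) (sI 0 X).symm, chi_single X 0 hP]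
    simp
  have hsingle : ∀ (n : ℤ) (X : A), P X →
      KZero.clTr Q ((DerivedCategory.singleFunctor A n).obj X) ∈ f.range := by
    intro n
    have step : ∀ (m : ℤ) (X : A), P X → KZero.clTr Q ((DerivedCategory.singleFunctor A m).obj X) =
        -KZero.clTr Q ((DerivedCategory.singleFunctor A (m + 1)).obj X) := fun m X hX => by
      let e : ((DerivedCategory.singleFunctor A (m + 1)).obj X)⟦(1 : ℤ)⟧ ≅
          (DerivedCategory.singleFunctor A m).obj X :=
        ((DerivedCategory.singleFunctors A).shiftIso 1 m (m + 1) (by omega)).app X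
      rw [← KDer.clTr_iso hQ0 e]
      exact KDer.clTr_shift_one hQ0 (hQs _ X hX) (Q.prop_of_iso e.symm (hQs _ X hX))
    induction n using Int.induction_on with
    | zero => exact fun X hX => ⟨KZero.clSub P X, hf X hX⟩
    | succ i ih =>
      intro X hX
      have := ih X hX
      rw [step _ X hX] at this
      exact neg_mem_iff.1 this
    | pred i ih =>
      intro X hX
      rw [step _ X hX, sub_add_cancel]
      exact neg_mem (ih X hX)
  have hsurj : ∀ (n : ℕ) (a : ℤ) (E : CochainComplex A ℤ), (∀ i, P (E.X i)) →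
      (∀ i : ℤ, i < a ∨ a + n - 1 < i → IsZero (E.X i)) →
      KZero.clTr Q (DerivedCategory.Q.obj E) ∈ f.range := by
    intro n
    induction n with
    | zero =>
      intro a E hE h
      have hz : IsZero E := by
        rw [IsZero.iff_id_eq_zero]
        ext i
        exact (h i (by omega)).eq_of_src _ _
      rw [KDer.clTr_isZero (DerivedCategory.Q.map_isZero hz) (hQQ E ⟨⟨_, _, h⟩, hE⟩)]
      exact zero_mem _
    | succ n ih =>
      intro a E hE h
      obtain ⟨E', ι, π, w, hS, hE', h'⟩ := exists_split_lowest hP a _ h hE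
      have b1 : Bdd P E' := ⟨⟨_, _, h'⟩, hE'⟩
      have b3 := bdd_single hP (hE a) a
      have hh := KDer.clTr_add (DerivedCategory.triangleOfSES_distinguished hS) (hQQ _ b1)
        (hQQ _ ⟨⟨_, _, h⟩, hE⟩) (hQQ _ b3)
      change KZero.clTr Q (DerivedCategory.Q.obj E) = _ at hh
      rw [hh]
      refine add_mem (ih (a + 1) E' hE' fun i hi => h' i (by omega)) ?_
      show KZero.clTr Q (DerivedCategory.Q.obj ((CochainComplex.singleFunctor A a).obj (E.X a))) ∈ _
      rw [← KDer.clTr_iso hQ0 (sI a (E.X a))]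
      exact hsingle a _ (hE a)
  have hbij : Function.Bijective f := by
    refine ⟨Function.LeftInverse.injective (g := g) fun x => DFunLike.congr_fun hgf x, fun y => ?_⟩
    obtain ⟨y, rfl⟩ := QuotientAddGroup.mk_surjective y
    show _ ∈ f.range
    induction y using FreeAbelianGroup.induction_on with
    | zero => exact zero_mem _
    | of X =>
      obtain ⟨E, ⟨⟨a, b, h⟩, hE⟩, ⟨e⟩⟩ := (hQ X.1).1 X.2
      rw [← KDer.clTr_eq_mk X.2, ← KDer.clTr_iso hQ0 e]
      exact hsurj (b + 1 - a).toNat a E hE fun i hi => h i (by omega)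
    | neg X h => exact neg_mem h
    | add x y hx hy => exact add_mem hx hy
  refine ⟨AddEquiv.ofBijective f hbij, hf, fun E hE => ?_⟩
  rw [AddEquiv.symm_apply_eq]
  obtain ⟨x, hx⟩ := hbij.2 (KZero.clTr Q (DerivedCategory.Q.obj E))
  rw [← hgQ E hE, ← hx, show g (f x) = x from DFunLike.congr_fun hgf x]
  rfl

end GrothLib.KProj
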