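import Groth.Agent.Lib.KProj.Basic
import Mathlib.Algebra.Category.ModuleCat.Biproducts
import Mathlib.Algebra.Category.ModuleCat.Projective
import Mathlib.RingTheory.LocalRing.Module
import Mathlib.LinearAlgebra.Dimension.Constructions
import Mathlib.LinearAlgebra.FreeModule.Finite.Basic

/-! # Finite projective modules -/

set_option autoImplicit false
universe u

open CategoryTheory CategoryTheory.Limits

namespace GrothLib.KProj

variable (R : Type u) [CommRing R]

/-- Finite projective modules are closed under sums and kernels of epimorphisms. -/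
theorem resolving_finProj :
    Resolving (fun M : ModuleCat.{u} R => Module.Finite R M ∧ Module.Projective R M) where
  iso := fun {X Y} e h => ⟨have := h.1; Module.Finite.equiv e.toLinearEquiv,
    have := h.2; Module.Projective.of_equiv e.toLinearEquiv⟩
  zero := fun {Z} hZ => by
    have : Subsingleton Z := ModuleCat.subsingleton_of_isZero hZ
    exact ⟨inferInstance, inferInstance⟩
  sum := fun {X Y} hX hY => by
    have := hX.1; have := hX.2; have := hY.1; have := hY.2
    exact ⟨Module.Finite.equiv (ModuleCat.biprodIsoProd X Y).symm.toLinearEquiv,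
      Module.Projective.of_equiv (ModuleCat.biprodIsoProd X Y).symm.toLinearEquiv⟩
  ker := fun {X Y} f hf hX hY => by
    have := hX.1; have := hX.2; have := hY.2
    obtain ⟨s, hs⟩ := f.hom.exists_rightInverse_of_surjective
      (LinearMap.range_eq_top.2 ((ModuleCat.epi_iff_surjective f).1 hf))
    have hp : ∀ x, f.hom (x - s (f.hom x)) = 0 := fun x => by
      rw [map_sub, show f.hom (s (f.hom x)) = f.hom x from LinearMap.congr_fun hs (f.hom x), sub_self]
    let p : X →ₗ[R] LinearMap.ker f.hom := LinearMap.codRestrict _ (LinearMap.id - s ∘ₗ f.hom) hp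
    have hpi : p ∘ₗ (LinearMap.ker f.hom).subtype = LinearMap.id := LinearMap.ext fun x => Subtype.ext (by
      simp [p, show f.hom x.1 = 0 from x.2])
    have h1 := Module.Finite.of_surjective p (fun y => ⟨y.1, LinearMap.congr_fun hpi y⟩)
    have h2 := Module.Projective.of_split (LinearMap.ker f.hom).subtype p hpi
    exact ⟨Module.Finite.equiv (ModuleCat.kernelIsoKer f).symm.toLinearEquiv,
      Module.Projective.of_equiv (ModuleCat.kernelIsoKer f).symm.toLinearEquiv⟩

variable {R}

/-- The rank on `K₀` of a local ring. -/
theorem exists_rankHom {B : Type u} [CommRing B] [IsLocalRing B] :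
    ∃ r : KZero.K0sub (fun M : ModuleCat.{u} B => Module.Finite B M ∧ Module.Projective B M) →+ ℤ,
      ∀ M : ModuleCat.{u} B, Module.Finite B M ∧ Module.Projective B M →
        r (KZero.clSub (fun M : ModuleCat.{u} B => Module.Finite B M ∧ Module.Projective B M) M) =
          (Module.finrank B M : ℤ) := by
  refine K0Sub.exists_lift _ fun S hS h₁ h₂ h₃ => ?_
  have := h₁.1; have := h₁.2; have := h₂.1; have := h₂.2; have := h₃.1; have := h₃.2
  have : Module.Free B S.X₁ := Module.free_of_flat_of_isLocalRing
  have : Module.Free B S.X₂ := Module.free_of_flat_of_isLocalRing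
  have : Module.Free B S.X₃ := Module.free_of_flat_of_isLocalRing
  have hf := (ModuleCat.mono_iff_injective S.f).1 hS.mono_f
  have hg := (ModuleCat.epi_iff_surjective S.g).1 hS.epi_g
  have hx : Function.Exact S.f.hom S.g.hom := (ShortComplex.ShortExact.moduleCat_exact_iff_function_exact S).1 hS.exact
  obtain ⟨l, hl⟩ := S.g.hom.exists_rightInverse_of_surjective (LinearMap.range_eq_top.2 hg)
  obtain ⟨e, -⟩ := hx.splitSurjectiveEquiv hf ⟨l, hl⟩
  rw [LinearEquiv.finrank_eq e, Module.finrank_prod]
  push_cast
  rfl

end GrothLib.KProj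

namespace GrothLib.KProj

open scoped TensorProduct

/-- Extension of scalars along `algebraMap` is base change. -/
theorem nonempty_extendScalars_equiv {A B : Type u} [CommRing A] [CommRing B] [Algebra A B] (M : ModuleCat.{u} A) :
    Nonempty (((ModuleCat.extendScalars.{u, u, u} (algebraMap A B)).obj M) ≃ₗ[B] B ⊗[A] M) := by
  suffices h : ∀ (φ : A →+* B) (a : Algebra A B), a = φ.toAlgebra →
      Nonempty (((ModuleCat.extendScalars.{u, u, u} φ).obj M) ≃ₗ[B] (letI := a; B ⊗[A] M)) from
    h (algebraMap A B) _ (Algebra.algebra_ext _ _ fun _ => rfl)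
  intro φ a ha
  subst ha
  exact ⟨LinearEquiv.refl B _⟩

end GrothLib.KProj
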